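import Mathlib
import Groth.Prelude.Def_DecSh

/-!
# One-step weighted filtrations: the numerical functions (helper2)
-/

set_option autoImplicit false
universe v u
open CategoryTheory CategoryTheory.Limits

namespace Groth.Agent.Helper2.DecShSingle

open DecSh

variable {C : Type u} [Category.{v} C] {E : C}

theorem nu_le {a : ℕ} (𝓕 : WFilt E) (αE : ℤ) (α : Subobject E → ℤ) (I : Fin a → Fin (𝓕.t + 1))
    (i : Fin 𝓕.t) : 𝓕.nu αE α I i ≤ a := by
  unfold WFilt.nu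
  calc _ ≤ (Finset.univ : Finset (Fin a)).card := Finset.card_filter_le _ _
    _ = a := by simp

theorem msum_single (P : Subobject E) (hP : P ≠ ⊤) (hP0 : ¬ IsZero (P : C)) (αE : ℤ)
    (α : Subobject E → ℤ) (dE : ℚ) (d : Subobject E → ℚ) :
    (WFilt.single P hP hP0).msum αE α dE d = (αE : ℚ) * d P - (α P : ℚ) * dE := by
  unfold WFilt.msum
  change ∑ i : Fin 1, (1 : ℚ) * _ = _
  rw [Fin.sum_univ_one, one_mul]
  rfl

theorem gam_single {a : ℕ} (P : Subobject E) (hP : P ≠ ⊤) (hP0 : ¬ IsZero (P : C)) (αE : ℤ)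
    (α : Subobject E → ℤ) (I : Fin a → Fin ((WFilt.single P hP hP0).t + 1)) :
    (WFilt.single P hP hP0).gam αE α I =
      (a : ℚ) * (α P : ℚ) - ((WFilt.single P hP hP0).nu αE α I (0 : Fin 1) : ℚ) * (αE : ℚ) := by
  unfold WFilt.gam
  change ∑ i : Fin 1, (1 : ℚ) * _ = _
  rw [Fin.sum_univ_one, one_mul]
  rfl

/-- lower bound for `μ` of a one-step filtration -/
theorem mu_single_ge {a : ℕ} (P : Subobject E) (hP : P ≠ ⊤) (hP0 : ¬ IsZero (P : C)) (αE : ℤ)
    (α : Subobject E → ℤ) (N : NV E a) (hα : 0 ≤ αE) :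
    -((a : ℚ) * ((αE : ℚ) - (α P : ℚ))) ≤ (WFilt.single P hP hP0).mu αE α N := by
  obtain ⟨I, -, hI⟩ := (WFilt.single P hP hP0).exists_gam_eq_mu αE α N
  rw [← hI, gam_single]
  have h1 : ((WFilt.single P hP hP0).nu αE α I (0 : Fin 1) : ℚ) ≤ (a : ℚ) := by
    exact_mod_cast nu_le _ αE α I _
  have h2 : (0 : ℚ) ≤ (αE : ℚ) := by exact_mod_cast hα
  nlinarith

/-- the semistability inequality for a one-step filtration -/
theorem ineq_of_isDeltaSS {a : ℕ} (ok : Subobject E → Prop) (αE : ℤ) (α : Subobject E → ℤ) (dE : ℚ)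
    (d : Subobject E → ℚ) (N : NV E a) (δ : ℚ) (hδ : 0 ≤ δ)
    (h : IsDeltaSS ok αE α dE d N δ) (hα : 0 ≤ αE)
    (P : Subobject E) (hP : P ≠ ⊤) (hP0 : ¬ IsZero (P : C)) (hok : ok P) :
    (αE : ℚ) * d P - (α P : ℚ) * dE ≤ δ * (a : ℚ) * ((αE : ℚ) - (α P : ℚ)) := by
  have h1 := h (WFilt.single P hP hP0) (fun _ => hok)
  rw [msum_single] at h1
  have h2 := mu_single_ge P hP hP0 αE α N hα
  nlinarith

end Groth.Agent.Helper2.DecShSingle
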