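import Mathlib
import Groth.Prelude.Def_DecSh
import Groth.Agent.Lib.Helper2.DecSh.Single

/-!
# Bounds for the function `μ` of a weighted filtration (helper2)
-/

set_option autoImplicit false
universe v u
open CategoryTheory CategoryTheory.Limits

namespace Groth.Agent.Helper2.DecShMu

open DecSh Groth.Agent.Helper2.DecShSingle

variable {C : Type u} [Category.{v} C] {E : C}

theorem mulX_le (𝓕 : WFilt E) (αE : ℤ) (α : Subobject E → ℤ)
    (hle : ∀ i, α (𝓕.piece i) ≤ αE) (j : Fin (𝓕.t + 1)) : 𝓕.mulX αE α j ≤ αE := by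
  induction j using Fin.lastCases with
  | last => rw [WFilt.mulX_last]
  | cast i => rw [WFilt.mulX_castSucc]; exact hle i

/-- the upper bound for the contribution of one step -/
theorem term_le {a : ℕ} (𝓕 : WFilt E) (αE : ℤ) (α : Subobject E → ℤ)
    (hle : ∀ i, α (𝓕.piece i) ≤ αE) (h1 : 1 ≤ αE) (I : Fin a → Fin (𝓕.t + 1)) (i : Fin 𝓕.t) :
    (a : ℚ) * (α (𝓕.piece i) : ℚ) - (𝓕.nu αE α I i : ℚ) * (αE : ℚ) ≤ (a : ℚ) * ((αE : ℚ) - 1) := by
  have h1' : (1 : ℚ) ≤ (αE : ℚ) := by exact_mod_cast h1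
  have ha : (0 : ℚ) ≤ (a : ℚ) := Nat.cast_nonneg a
  by_cases h : α (𝓕.piece i) = αE
  · have hν : 𝓕.nu αE α I i = a := by
      unfold WFilt.nu
      rw [Finset.filter_true_of_mem]
      · simp
      · intro j _
        rw [h]
        exact mulX_le 𝓕 αE α hle (I j)
    rw [hν, h]
    nlinarith
  · have h2 : α (𝓕.piece i) ≤ αE - 1 := by
      have := hle i
      omega
    have h2' : (α (𝓕.piece i) : ℚ) ≤ (αE : ℚ) - 1 := by exact_mod_cast h2
    have hν : (0 : ℚ) ≤ (𝓕.nu αE α I i : ℚ) := Nat.cast_nonneg _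
    nlinarith

/-- the lower bound for the contribution of one step -/
theorem term_ge {a : ℕ} (𝓕 : WFilt E) (αE : ℤ) (α : Subobject E → ℤ) (h0 : 0 ≤ αE)
    (I : Fin a → Fin (𝓕.t + 1)) (i : Fin 𝓕.t) :
    (a : ℚ) * (α (𝓕.piece i) : ℚ) - (a : ℚ) * (αE : ℚ) ≤
      (a : ℚ) * (α (𝓕.piece i) : ℚ) - (𝓕.nu αE α I i : ℚ) * (αE : ℚ) := by
  have h0' : (0 : ℚ) ≤ (αE : ℚ) := by exact_mod_cast h0
  have hν : (𝓕.nu αE α I i : ℚ) ≤ (a : ℚ) := by exact_mod_cast nu_le 𝓕 αE α I i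
  nlinarith

/-- `|μ| ≤ (Σ m_i) · a · (αE − 1)` when every piece has multiplicity between `1` and `αE` -/
theorem abs_mu_le {a : ℕ} (𝓕 : WFilt E) (αE : ℤ) (α : Subobject E → ℤ) (N : NV E a)
    (hge : ∀ i, 1 ≤ α (𝓕.piece i)) (hle : ∀ i, α (𝓕.piece i) ≤ αE) :
    |𝓕.mu αE α N| ≤ (∑ i, 𝓕.wt i) * (a : ℚ) * ((αE : ℚ) - 1) := by
  have h1 : 1 ≤ αE := (hge ⟨0, 𝓕.t_pos⟩).trans (hle _)
  have ha : (0 : ℚ) ≤ (a : ℚ) := Nat.cast_nonneg a
  rw [abs_le]
  constructor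
  · obtain ⟨I, -, hI⟩ := 𝓕.exists_gam_eq_mu αE α N
    rw [← hI]
    unfold WFilt.gam
    rw [Finset.sum_mul, Finset.sum_mul, ← Finset.sum_neg_distrib]
    apply Finset.sum_le_sum
    intro i _
    have hw := (𝓕.wt_pos i).le
    have h2 := term_ge 𝓕 αE α (by omega) I i
    have h3 : (1 : ℚ) ≤ (α (𝓕.piece i) : ℚ) := by exact_mod_cast hge i
    have h4 : (a : ℚ) * (1 - (αE : ℚ)) ≤
        (a : ℚ) * (α (𝓕.piece i) : ℚ) - (𝓕.nu αE α I i : ℚ) * (αE : ℚ) := by nlinarith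
    have := mul_le_mul_of_nonneg_left h4 hw
    linarith
  · refine (𝓕.mu_le_gam αE α N (𝓕.adm_last N)).trans ?_
    unfold WFilt.gam
    rw [Finset.sum_mul, Finset.sum_mul]
    apply Finset.sum_le_sum
    intro i _
    have hw := (𝓕.wt_pos i).le
    have h2 := term_le (a := a) 𝓕 αE α hle h1 (fun _ => Fin.last 𝓕.t) i
    have := mul_le_mul_of_nonneg_left h2 hw
    linarith

end Groth.Agent.Helper2.DecShMu
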