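import Mathlib
import Groth.Prelude.Def_DecSh
import Groth.Agent.Lib.Helper2.DecSh.MuBound

/-!
# `μ` of a weighted filtration and of a sub-filtration (helper2)
-/

set_option autoImplicit false
universe v u
open CategoryTheory CategoryTheory.Limits

namespace Groth.Agent.Helper2.DecShMu

open DecSh Groth.Agent.Helper2.DecShSingle

variable {C : Type u} [Category.{v} C] {E : C}

/-- dropping steps of total weight `w` raises `μ` by at most `w · a · (αE − 1)` -/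
theorem mu_le_mu_sub {a : ℕ} (𝓕 𝓕₁ : WFilt E) (αE : ℤ) (α : Subobject E → ℤ) (N : NV E a)
    (e : Fin 𝓕₁.t → Fin 𝓕.t) (hpiece : ∀ j, 𝓕₁.piece j = 𝓕.piece (e j))
    (hwt : ∀ j, 𝓕₁.wt j = 𝓕.wt (e j))
    (hle : ∀ i, α (𝓕.piece i) ≤ αE) (h1 : 1 ≤ αE) :
    𝓕.mu αE α N ≤ 𝓕₁.mu αE α N +
      ((∑ i, 𝓕.wt i) - ∑ j, 𝓕₁.wt j) * (a : ℚ) * ((αE : ℚ) - 1) := by
  classical
  obtain ⟨I₁, hadm, hI₁⟩ := 𝓕₁.exists_gam_eq_mu αE α N
  obtain ⟨e', he'⟩ : ∃ e' : Fin (𝓕₁.t + 1) → Fin (𝓕.t + 1),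
      e' = Fin.lastCases (Fin.last _) (fun j => (e j).castSucc) := ⟨_, rfl⟩
  have he'_last : e' (Fin.last _) = Fin.last _ := by rw [he']; exact Fin.lastCases_last
  have he'_cast : ∀ j, e' j.castSucc = (e j).castSucc := fun j => by
    rw [he']; exact Fin.lastCases_castSucc j
  have hpX : ∀ j, 𝓕.pieceX (e' j) = 𝓕₁.pieceX j := by
    intro j
    induction j using Fin.lastCases with
    | last => rw [he'_last, WFilt.pieceX_last, WFilt.pieceX_last]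
    | cast j => rw [he'_cast, WFilt.pieceX_castSucc, WFilt.pieceX_castSucc, hpiece]
  have hmX : ∀ j, 𝓕.mulX αE α (e' j) = 𝓕₁.mulX αE α j := by
    intro j
    induction j using Fin.lastCases with
    | last => rw [he'_last, WFilt.mulX_last, WFilt.mulX_last]
    | cast j => rw [he'_cast, WFilt.mulX_castSucc, WFilt.mulX_castSucc, hpiece]
  obtain ⟨I, hIdef⟩ : ∃ I : Fin a → Fin (𝓕.t + 1), I = fun l => e' (I₁ l) := ⟨_, rfl⟩
  have hI : 𝓕.Adm N I := by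
    unfold WFilt.Adm at hadm ⊢
    have h2 : (fun l => 𝓕.pieceX (I l)) = fun l => 𝓕₁.pieceX (I₁ l) := by
      funext l
      rw [hIdef]
      exact hpX _
    rw [h2]
    exact hadm
  have hν : ∀ j, 𝓕.nu αE α I (e j) = 𝓕₁.nu αE α I₁ j := by
    intro j
    unfold WFilt.nu
    congr 1
    ext l
    simp only [Finset.mem_filter, Finset.mem_univ, true_and]
    rw [hIdef, hmX, hpiece]
  have hinj : Function.Injective e := by
    intro j j' h
    apply 𝓕₁.piece_strictMono.injective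
    rw [hpiece, hpiece, h]
  refine (𝓕.mu_le_gam αE α N hI).trans ?_
  rw [← hI₁]
  unfold WFilt.gam
  obtain ⟨f, hf⟩ : ∃ f : Fin 𝓕.t → ℚ, f = fun i => 𝓕.wt i *
      ((a : ℚ) * (α (𝓕.piece i) : ℚ) - (𝓕.nu αE α I i : ℚ) * (αE : ℚ)) := ⟨_, rfl⟩
  have hsplit : ∑ i, f i =
      ∑ i ∈ Finset.univ.image e, f i + ∑ i ∈ (Finset.univ.image e)ᶜ, f i :=
    (Finset.sum_add_sum_compl _ _).symm
  have him : ∑ i ∈ Finset.univ.image e, f i = ∑ j, f (e j) :=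
    Finset.sum_image (fun _ _ _ _ h => hinj h)
  have hfe : ∀ j, f (e j) = 𝓕₁.wt j *
      ((a : ℚ) * (α (𝓕₁.piece j) : ℚ) - (𝓕₁.nu αE α I₁ j : ℚ) * (αE : ℚ)) := by
    intro j
    rw [hf]
    simp only
    rw [hν, ← hwt, ← hpiece]
  have hcompl : ∑ i ∈ (Finset.univ.image e)ᶜ, f i ≤
      ∑ i ∈ (Finset.univ.image e)ᶜ, 𝓕.wt i * ((a : ℚ) * ((αE : ℚ) - 1)) := by
    apply Finset.sum_le_sum
    intro i _
    rw [hf]
    exact mul_le_mul_of_nonneg_left (term_le 𝓕 αE α hle h1 I i) (𝓕.wt_pos i).le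
  have hw : ∑ i ∈ (Finset.univ.image e)ᶜ, 𝓕.wt i = (∑ i, 𝓕.wt i) - ∑ j, 𝓕₁.wt j := by
    have h2 := Finset.sum_add_sum_compl (Finset.univ.image e) 𝓕.wt
    rw [Finset.sum_image (fun _ _ _ _ h => hinj h)] at h2
    have h3 : ∑ j, 𝓕.wt (e j) = ∑ j, 𝓕₁.wt j := Finset.sum_congr rfl (fun j _ => (hwt j).symm)
    rw [h3] at h2
    linarith
  have hmain : ∑ i, f i = ∑ i, 𝓕.wt i *
      ((a : ℚ) * (α (𝓕.piece i) : ℚ) - (𝓕.nu αE α I i : ℚ) * (αE : ℚ)) := by rw [hf]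
  rw [← hmain, hsplit, him, Finset.sum_congr rfl (fun j _ => hfe j)]
  rw [← Finset.sum_mul, hw] at hcompl
  linarith

end Groth.Agent.Helper2.DecShMu
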