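import Mathlib
import Groth.Prelude.Def_DecSh2
import Groth.Agent.Lib.Helper2.ShStab.HilbPoly
import Groth.Agent.Lib.Helper1.TwistAmpleOpen
import Groth.Agent.Lib.Helper1.TildeTens

/-!
# The multiplicity `DecSh.mult` on a one-dimensional proper scheme (helper2)

`mult k X L F = χ(F ⊗ L) − χ(F)` is the degree-one coefficient of the Hilbert polynomial when the support of
`F` has dimension at most one; it is invariant under isomorphisms, additive in short exact sequences and
non-negative for an ample `L`.
-/

set_option autoImplicit false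
universe u
open CategoryTheory CategoryTheory.Limits AlgebraicGeometry Polynomial

namespace Groth.Agent.Helper2.DecShMult

open Groth.Agent.Helper1 Groth.Agent.Helper1.Euler Groth.Agent.Helper1.TwForm
open Groth.Agent.Helper2.HilbBasic Groth.Agent.Helper2

variable (k : Type u) [Field k] (X : Scheme.{u}) [X.Over (Spec (CommRingCat.of k))]

theorem mult_iso (L : X.Modules) {F F' : X.Modules} (e : F ≅ F') :
    DecSh.mult k X L F = DecSh.mult k X L F' := by
  unfold DecSh.mult
  rw [euler_iso k X e, euler_iso k X (TwistTens.tensorModCongrLeft e L)]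

theorem euler_twist_zero (L F : X.Modules) :
    Curv2.euler k X (ShStab.twist X L F 0) = Curv2.euler k X F := by
  obtain ⟨e⟩ := TwistAmpleOpen.nonempty_tensorMod_unit_iso F
  exact euler_iso k X (TildeTens.tensorModComm F (Coh.structureModule X) ≪≫ e)

theorem euler_twist_one (L F : X.Modules) :
    Curv2.euler k X (ShStab.twist X L F 1) = Curv2.euler k X (CohB1.tensorMod F L) := by
  obtain ⟨e⟩ := TwistAmpleOpen.nonempty_tensorMod_unit_iso L
  exact euler_iso k X (TwistTens.tensorModCongrRight F e)

variable [IsProper (X ↘ (Spec (CommRingCat.of k)))]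

/-- the multiplicity is the degree-one coefficient of the Hilbert polynomial -/
theorem mult_eq_coeff {L F : X.Modules} (hL : PicF.IsInvertible L) (hF : Coh.IsCoh F)
    (hd : topologicalKrullDim (CohB1.support F) ≤ (1 : ℕ)) {P : ℚ[X]}
    (hP : ShStab.IsHilbPoly k X L F P) : (DecSh.mult k X L F : ℚ) = P.coeff 1 := by
  have hdeg := HilbPoly.natDegree_le k X hL hF 1 hd hP
  have h1 := hP 1
  have h0 := hP 0
  rw [euler_twist_one] at h1
  rw [euler_twist_zero] at h0
  have hPe := Polynomial.eq_X_add_C_of_natDegree_le_one hdeg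
  unfold DecSh.mult
  push_cast
  rw [h1, h0]
  conv_lhs => rw [hPe]
  simp

/-- the dimension of a subset is at most that of the space -/
theorem dim_le_of_dim (F : X.Modules) {d : ℕ} (hdim : topologicalKrullDim X = (d : WithBot ℕ∞)) :
    topologicalKrullDim (CohB1.support F) ≤ (d : ℕ) := by
  rw [← hdim]
  exact Topology.IsInducing.subtypeVal.topologicalKrullDim_le

theorem mult_nonneg {L F : X.Modules} (hL : CohB1.IsAmple L) (hF : Coh.IsCoh F)
    (hd : topologicalKrullDim (CohB1.support F) ≤ (1 : ℕ)) : 0 ≤ DecSh.mult k X L F := by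
  obtain ⟨P, hP, hdeg⟩ := HilbPoly.exists_of_dim_le k X hL.1 hF 1 hd
  have h := mult_eq_coeff k X hL.1 hF hd hP
  have h2 := HilbPoly.coeff_nonneg k X hL hF hP 1 hdeg
  rw [← h] at h2
  exact_mod_cast h2

/-- additivity of the multiplicity -/
theorem mult_add {L : X.Modules} (hL : PicF.IsInvertible L) (S : ShortComplex X.Modules)
    (hS : S.ShortExact) (h₁ : Coh.IsCoh S.X₁) (h₂ : Coh.IsCoh S.X₂) (h₃ : Coh.IsCoh S.X₃) :
    DecSh.mult k X L S.X₂ = DecSh.mult k X L S.X₁ + DecSh.mult k X L S.X₃ := by
  have e0 := euler_additive k X S hS h₁ h₂ h₃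
  have e1 := euler_twist_additive k X hL S hS h₁ h₂ h₃ 1
  rw [euler_twist_one, euler_twist_one, euler_twist_one] at e1
  unfold DecSh.mult
  rw [e0, e1]
  ring

end Groth.Agent.Helper2.DecShMult
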