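import Mathlib
import Groth.Agent.Lib.Helper2.DecSh.Mult
import Groth.Agent.Lib.Helper2.TorFree.Dim
import Groth.Agent.Lib.Lead.HP9

/-!
# Positivity of the multiplicity of a nonzero torsion-free coherent module on a reduced proper curve
without isolated points (helper2)
-/

set_option autoImplicit false
universe u
open CategoryTheory CategoryTheory.Limits AlgebraicGeometry Polynomial

namespace Groth.Agent.Helper2.DecShMult

open Groth.Agent.Helper1 Groth.Agent.Helper1.Euler

variable (k : Type u) [Field k] (X : Scheme.{u}) [X.Over (Spec (CommRingCat.of k))]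
  [IsProper (X ↘ (Spec (CommRingCat.of k)))]

theorem mult_pos_of_dim {L F : X.Modules} (hL : CohB1.IsAmple L) (hF : Coh.IsCoh F)
    (hd : topologicalKrullDim (CohB1.support F) = ((1 : ℕ) : WithBot ℕ∞)) :
    1 ≤ DecSh.mult k X L F := by
  obtain ⟨P, hP, hdeg⟩ := HilbPoly.exists_of_dim_le k X hL.1 hF 1 hd.le
  have h := mult_eq_coeff k X hL.1 hF hd.le hP
  have h2 := Groth.Agent.Lead.HP.alpha_pos_of_dim k X L hL F hF 1 hd hP
  unfold StabCat.alpha at h2
  rw [← h] at h2
  simp only [Nat.factorial_one, Nat.cast_one, one_mul] at h2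
  have h3 : (0 : ℤ) < DecSh.mult k X L F := by exact_mod_cast h2
  omega

theorem mult_pos [IsReduced X] (hdim : topologicalKrullDim X = 1)
    (hpure : ∀ x : X, ¬ IsOpen ({x} : Set X)) {L F : X.Modules} (hL : CohB1.IsAmple L)
    (hF : Coh.IsCoh F) (hF0 : ¬ IsZero F) (htf : TorSh.IsTorsionFree F) :
    1 ≤ DecSh.mult k X L F := by
  haveI : IsNoetherian X := isNoetherian_of_proper k X
  apply mult_pos_of_dim k X hL hF
  refine le_antisymm (dim_le_of_dim X F (by rw [hdim]; rfl)) ?_
  rw [Nat.cast_one]
  exact TFDim.one_le_dim_support hpure F hF hF0 htf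

end Groth.Agent.Helper2.DecShMult
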