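import Mathlib
import Groth.Agent.Lib.Helper2.DecSh.MultPos
import Groth.Agent.Lib.Helper2.TorFree.Sub
import Groth.Agent.Lib.Helper2.ShStab.ParPoly

/-!
# Multiplicities of the subobjects of a torsion-free coherent module on a reduced proper curve (helper2)
-/

set_option autoImplicit false
universe u
open CategoryTheory CategoryTheory.Limits AlgebraicGeometry Polynomial

namespace Groth.Agent.Helper2.DecShMult

open Groth.Agent.Helper1 Groth.Agent.Helper1.Euler

variable (k : Type u) [Field k] (X : Scheme.{u}) [X.Over (Spec (CommRingCat.of k))]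
  [IsProper (X ↘ (Spec (CommRingCat.of k)))]

/-- the multiplicity of a coherent subobject is at most that of the module (dimension one) -/
theorem mult_subobject_le (hdim : topologicalKrullDim X = 1) {L E : X.Modules}
    (hL : CohB1.IsAmple L) (hE : Coh.IsCoh E) (A : Subobject E) (hA : Coh.IsCoh (A : X.Modules)) :
    DecSh.mult k X L (A : X.Modules) ≤ DecSh.mult k X L E := by
  have hC : Coh.IsCoh (cokernel A.arrow) := ParPoly.isCoh_cokernel A.arrow hA hE
  have h := mult_add k X hL.1 (ParPoly.subSC A) (ParPoly.subSC_shortExact A) hA hE hC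
  have h0 : 0 ≤ DecSh.mult k X L (cokernel A.arrow) :=
    mult_nonneg k X hL hC (dim_le_of_dim X _ (by rw [hdim]; rfl))
  change DecSh.mult k X L E = DecSh.mult k X L (A : X.Modules) +
    DecSh.mult k X L (cokernel A.arrow) at h
  omega

/-- the multiplicity of a nonzero coherent subobject of a torsion-free module is positive -/
theorem mult_subobject_pos [IsReduced X] (hdim : topologicalKrullDim X = 1)
    (hpure : ∀ x : X, ¬ IsOpen ({x} : Set X)) {L E : X.Modules} (hL : CohB1.IsAmple L)
    (htf : TorSh.IsTorsionFree E) (A : Subobject E) (hA : Coh.IsCoh (A : X.Modules))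
    (hA0 : ¬ IsZero (A : X.Modules)) : 1 ≤ DecSh.mult k X L (A : X.Modules) :=
  mult_pos k X hdim hpure hL hA hA0 (TFSub.isTorsionFree_of_mono A.arrow htf)

end Groth.Agent.Helper2.DecShMult
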