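import Mathlib
import Groth.Prelude.Def_DecSh2
import Groth.Agent.Lib.Helper1.CurveDual2
import Groth.Agent.Lib.Helper1.Euler3
import Groth.Agent.Lib.Helper4.T2Main1

/-!
# Bounds for the parabolic Euler characteristic `DecSh.parChi` (helper2)
-/

set_option autoImplicit false
universe u
open CategoryTheory CategoryTheory.Limits AlgebraicGeometry

namespace Groth.Agent.Helper2.DecShPar

open Groth.Agent.Helper1

variable (k : Type u) [Field k] (X : Scheme.{u}) [X.Over (Spec (CommRingCat.of k))]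
  [IsProper (X ↘ (Spec (CommRingCat.of k)))]

/-- the space `H⁰(E ⊗ O_D)` is finite-dimensional -/
theorem finite_fibD (I : X.IdealSheafData) {E : X.Modules} (hE : Coh.IsCoh E) :
    Module.Finite k (ParSh.fibD X I E) :=
  Groth.Agent.Lib.Helper4.T2Main1.t2 k X _
    (Euler.isCoh_tensor E _ hE (CurveDual.isCoh_quotMod I)) 0

variable {X}

/-- the parabolic correction term lies between `0` and `ν · r` -/
theorem parChi_bounds {E : X.Modules} (hE : Coh.IsCoh E) {ν : ℕ} (I : Fin ν → X.IdealSheafData)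
    (K : ∀ i, Submodule k (ParSh.fibD X (I i) E)) (r : ℕ)
    (hK : ∀ i, Module.finrank k (ParSh.fibD X (I i) E ⧸ K i) = r)
    (κ : Fin ν → ℚ) (hκ : ∀ i, 0 < κ i ∧ κ i < 1) {F : X.Modules} (φ : F ⟶ E) :
    (Curv2.euler k X F : ℚ) - (ν : ℚ) * (r : ℚ) ≤ DecSh.parChi k I K κ φ ∧
      DecSh.parChi k I K κ φ ≤ (Curv2.euler k X F : ℚ) := by
  unfold DecSh.parChi
  have hd : ∀ i, (Module.finrank k ((LinearMap.range (ParSh.fibDMap k X (I i) φ)).map (K i).mkQ) : ℚ)
      ≤ (r : ℚ) := by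
    intro i
    haveI := finite_fibD k X (I i) hE
    have h1 := Submodule.finrank_le ((LinearMap.range (ParSh.fibDMap k X (I i) φ)).map (K i).mkQ)
    rw [hK i] at h1
    exact_mod_cast h1
  have h0 : 0 ≤ ∑ i, κ i * (Module.finrank k
      ((LinearMap.range (ParSh.fibDMap k X (I i) φ)).map (K i).mkQ) : ℚ) :=
    Finset.sum_nonneg fun i _ => mul_nonneg (hκ i).1.le (Nat.cast_nonneg _)
  have h1 : ∑ i, κ i * (Module.finrank k
      ((LinearMap.range (ParSh.fibDMap k X (I i) φ)).map (K i).mkQ) : ℚ) ≤ (ν : ℚ) * (r : ℚ) := by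
    calc _ ≤ ∑ _i : Fin ν, (1 : ℚ) * (r : ℚ) := by
          apply Finset.sum_le_sum
          intro i _
          exact mul_le_mul (hκ i).2.le (hd i) (Nat.cast_nonneg _) zero_le_one
      _ = (ν : ℚ) * (r : ℚ) := by simp
  constructor <;> linarith

end Groth.Agent.Helper2.DecShPar
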